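import Groth.Agent.PropsBasic.UnivHomeo
import Mathlib

/-!
Finite, purely inseparable models of a finite purely inseparable extension of the fraction field.
-/

set_option autoImplicit false
universe u

open CategoryTheory AlgebraicGeometry

namespace Groth.GenGeomRed

theorem exists_model {R K : Type u} [CommRing R] [Field K] [Algebra R K]
    (hfrac : ∀ x : K, ∃ a s : R, algebraMap R K s ≠ 0 ∧ x * algebraMap R K s = algebraMap R K a)
    (hker : RingHom.ker (algebraMap R K) ≤ nilradical R)
    (L : Type u) [Field L] [Algebra K L] [FiniteDimensional K L] [IsPurelyInseparable K L] :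
    ∃ (A : Type u) (_ : CommRing A) (_ : IsDomain A) (φ : R →+* A) (ι : A →+* L),
      Function.Injective ι ∧ ι.comp φ = (algebraMap K L).comp (algebraMap R K) ∧ φ.Finite ∧
      FlatMor.IsUnivHomeo (Spec.map (CommRingCat.ofHom φ)) ∧
      ∀ x : L, ∃ a s : A, s ≠ 0 ∧ x * ι s = ι a := by
  classical
  letI : Algebra R L := ((algebraMap K L).comp (algebraMap R K)).toAlgebra
  haveI : IsScalarTower R K L := IsScalarTower.of_algebraMap_eq' rfl
  obtain ⟨q, hq⟩ := ExpChar.exists K
  haveI := hq
  haveI : ExpChar L q := expChar_of_injective_algebraMap (algebraMap K L).injective q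
  -- elements of `L` having a `q`-power in `R`
  let P : Subalgebra R L :=
    { carrier := {x | ∃ n : ℕ, ∃ r : R, x ^ q ^ n = algebraMap R L r}
      mul_mem' := by
        rintro x y ⟨n, r, hx⟩ ⟨m, s, hy⟩
        refine ⟨n + m, r ^ q ^ m * s ^ q ^ n, ?_⟩
        rw [map_mul, map_pow, map_pow, ← hx, ← hy, ← pow_mul, ← pow_mul, ← pow_add, ← pow_add, mul_pow,
          add_comm m n]
      add_mem' := by
        rintro x y ⟨n, r, hx⟩ ⟨m, s, hy⟩
        refine ⟨n + m, r ^ q ^ m + s ^ q ^ n, ?_⟩
        rw [map_add, map_pow, map_pow, ← hx, ← hy, ← pow_mul, ← pow_mul, ← pow_add, ← pow_add,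
          add_pow_expChar_pow, add_comm m n]
      algebraMap_mem' := fun r => ⟨0, r, by simp⟩ }
  have hP : ∀ x : L, ∃ d : R, algebraMap R K d ≠ 0 ∧ algebraMap R L d * x ∈ P := by
    intro x
    obtain ⟨n, c, hc⟩ := IsPurelyInseparable.pow_mem K q x
    obtain ⟨a, s, hs, hcs⟩ := hfrac c
    refine ⟨s, hs, n, s ^ (q ^ n - 1) * a, ?_⟩
    have h1 : 1 ≤ q ^ n := Nat.one_le_pow _ _ (expChar_pos K q)
    rw [mul_pow, ← hc, IsScalarTower.algebraMap_apply R K L, IsScalarTower.algebraMap_apply R K L,
      ← map_pow, ← map_mul, map_mul (algebraMap R K), ← hcs, map_pow]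
    congr 1
    calc algebraMap R K s ^ q ^ n * c = algebraMap R K s ^ (q ^ n - 1 + 1) * c := by
          rw [Nat.sub_add_cancel h1]
      _ = algebraMap R K s ^ (q ^ n - 1) * (c * algebraMap R K s) := by ring
  let b := Module.finBasis K L
  choose d hd hdP using fun i => hP (b i)
  let v : Fin (Module.finrank K L) → L := fun i => algebraMap R L (d i) * b i
  let A : Subalgebra R L := Algebra.adjoin R (Set.range v)
  have hAP : A ≤ P := Algebra.adjoin_le (by rintro _ ⟨i, rfl⟩; exact hdP i)
  have hint : ∀ x ∈ A, IsIntegral R x := by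
    intro x hx
    obtain ⟨n, r, hr⟩ := hAP hx
    exact IsIntegral.of_pow (Nat.one_le_pow _ _ (expChar_pos K q) : 0 < q ^ n) (hr ▸ isIntegral_algebraMap)
  have hfin : Module.Finite R A := by
    have h1 : (Subalgebra.toSubmodule A).FG :=
      fg_adjoin_of_finite (Set.finite_range v) (by
        rintro _ ⟨i, rfl⟩; exact hint _ (Algebra.subset_adjoin ⟨i, rfl⟩))
    exact Module.Finite.iff_fg.2 h1
  refine ⟨A, inferInstance, inferInstance, algebraMap R A, A.val.toRingHom, Subtype.val_injective, rfl,
    RingHom.finite_algebraMap.2 hfin, ?_, ?_⟩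
  · have hintA : (algebraMap R A).IsIntegral := fun x =>
      (isIntegral_algHom_iff A.val Subtype.val_injective).1 (hint _ x.2)
    have hkA : RingHom.ker (algebraMap R A) ≤ nilradical R := by
      intro r hr
      apply hker
      rw [RingHom.mem_ker] at hr ⊢
      apply (algebraMap K L).injective
      rw [map_zero, ← IsScalarTower.algebraMap_apply R K L]
      exact congr_arg Subtype.val hr
    rw [Groth.PropsBasic.UH.spec_isUnivHomeo_iff]
    refine ⟨hintA, ?_, Groth.PropsBasic.UH.comap_surjective_of_isIntegral hintA hkA⟩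
    intro F _ g₁ g₂ h
    ext x
    obtain ⟨n, r, hr⟩ := hAP x.2
    have hx : x ^ q ^ n = algebraMap R A r := Subtype.ext hr
    cases hq with
    | zero =>
      simp only [one_pow, pow_one] at hx
      rw [hx]
      exact RingHom.congr_fun h r
    | prime hp =>
      haveI : Fact q.Prime := ⟨hp⟩
      haveI : CharP L q := charP_of_injective_algebraMap (algebraMap K L).injective q
      haveI : CharP F q := by
        have h0 : (q : A) = 0 := Subtype.ext (by
          have : A.val (q : A) = A.val 0 := by
            rw [map_natCast, map_zero, CharP.cast_eq_zero]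
          exact this)
        exact (CharP.charP_iff_prime_eq_zero hp).2 (by rw [← map_natCast g₁, h0, map_zero])
      haveI : ExpChar F q := ExpChar.prime hp
      have h2 : g₁ x ^ q ^ n = g₂ x ^ q ^ n := by
        rw [← map_pow, ← map_pow, hx]
        exact RingHom.congr_fun h r
      exact iterateFrobenius_inj F q n h2
  · intro x
    have hmap : ∀ r : R, algebraMap R K r ≠ 0 → (algebraMap R A r) ≠ 0 := fun r hr h0 => by
      apply hr
      apply (algebraMap K L).injective
      rw [map_zero, ← IsScalarTower.algebraMap_apply R K L]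
      exact congr_arg Subtype.val h0
    have hx : x ∈ Submodule.span K (Set.range b) := b.mem_span x
    induction hx using Submodule.span_induction with
    | mem y hy =>
      obtain ⟨i, rfl⟩ := hy
      exact ⟨⟨v i, Algebra.subset_adjoin ⟨i, rfl⟩⟩, algebraMap R A (d i), hmap _ (hd i),
        mul_comm _ _⟩
    | zero => exact ⟨0, 1, one_ne_zero, by simp⟩
    | add y z _ _ hy hz =>
      obtain ⟨a₁, s₁, hs₁, e₁⟩ := hy
      obtain ⟨a₂, s₂, hs₂, e₂⟩ := hz
      refine ⟨a₁ * s₂ + a₂ * s₁, s₁ * s₂, mul_ne_zero hs₁ hs₂, ?_⟩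
      simp only [map_add, map_mul, ← e₁, ← e₂]
      ring
    | smul c y _ hy =>
      obtain ⟨a₁, s₁, hs₁, e₁⟩ := hy
      obtain ⟨a₀, s₀, hs₀, e₀⟩ := hfrac c
      refine ⟨algebraMap R A a₀ * a₁, algebraMap R A s₀ * s₁, mul_ne_zero (hmap _ hs₀) hs₁, ?_⟩
      have e₀' : algebraMap K L c * algebraMap R L s₀ = algebraMap R L a₀ := by
        rw [IsScalarTower.algebraMap_apply R K L, IsScalarTower.algebraMap_apply R K L, ← map_mul, e₀]
      simp only [map_mul, ← e₁, Algebra.smul_def]
      change algebraMap K L c * y * (algebraMap R L s₀ * _) = algebraMap R L a₀ * _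
      rw [← e₀']
      ring

end Groth.GenGeomRed
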