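import Groth.Agent.GenGeomRed.Shrink
import Groth.Agent.GenGeomRed.Model
import Groth.Agent.S1629
import Groth.Agent.S1471
import Groth.Agent.S7660
import Groth.Agent.HTopHyper.SchemeBasic

/-!
After a finite universal homeomorphism over an open of the base, the generic fibre has geometrically
reduced reduction.
-/

set_option autoImplicit false
set_option linter.style.haveILetI false
universe u

open CategoryTheory CategoryTheory.Limits AlgebraicGeometry TopologicalSpace

namespace Groth.GenGeomRed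

/-- A field valued point at the generic point of an integral affine scheme factors through the fraction field. -/
theorem exists_factor_generic {A : CommRingCat.{u}} [IsDomain A] {k : Type u} [Field k] (ι : A →+* k)
    (hι : Function.Injective ι) (hfr : ∀ x : k, ∃ a s : A, s ≠ 0 ∧ x * ι s = ι a)
    {F : Type u} [Field F] (y : Spec (CommRingCat.of F) ⟶ Spec A)
    (hy : y (IsLocalRing.closedPoint F) = genericPoint (Spec A)) :
    ∃ ψ : Spec (CommRingCat.of F) ⟶ Spec (CommRingCat.of k),
      ψ ≫ Spec.map (CommRingCat.ofHom ι) = y := by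
  obtain ⟨ρ, rfl⟩ := Spec.map_surjective y
  letI := ι.toAlgebra
  haveI : IsFractionRing A k := by
    refine ⟨⟨fun s => isUnit_iff_ne_zero.2 fun h => nonZeroDivisors.ne_zero s.2 (hι (h.trans ι.map_zero.symm)),
      fun z => ?_, fun h => ⟨1, by rw [hι h]⟩⟩⟩
    obtain ⟨a, s, hs, he⟩ := hfr z
    exact ⟨(a, ⟨s, mem_nonZeroDivisors_iff_ne_zero.2 hs⟩), he⟩
  rw [genericPoint_eq_bot_of_affine] at hy
  have hinj : Function.Injective ρ.hom := by
    rw [injective_iff_map_eq_zero]
    intro a ha
    have h1 : a ∈ (Spec.map ρ (IsLocalRing.closedPoint F)).asIdeal := by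
      change ρ.hom a ∈ (IsLocalRing.closedPoint F).asIdeal
      rw [ha]; exact zero_mem _
    rw [hy] at h1
    exact h1
  refine ⟨Spec.map (CommRingCat.ofHom (IsFractionRing.lift (K := k) hinj)), ?_⟩
  rw [← Spec.map_comp]
  congr 1
  ext a
  exact IsFractionRing.lift_algebraMap hinj a

theorem isPreimmersion_generic {A : Type u} [CommRing A] [IsDomain A] {k : Type u} [Field k] (ι : A →+* k)
    (hι : Function.Injective ι) (hfr : ∀ x : k, ∃ a s : A, s ≠ 0 ∧ x * ι s = ι a) :
    IsPreimmersion (Spec.map (CommRingCat.ofHom ι)) := by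
  letI := ι.toAlgebra
  haveI : IsFractionRing A k := by
    refine ⟨⟨fun s => isUnit_iff_ne_zero.2 fun h => nonZeroDivisors.ne_zero s.2 (hι (h.trans ι.map_zero.symm)),
      fun z => ?_, fun h => ⟨1, by rw [hι h]⟩⟩⟩
    obtain ⟨a, s, hs, he⟩ := hfr z
    exact ⟨(a, ⟨s, mem_nonZeroDivisors_iff_ne_zero.2 hs⟩), he⟩
  exact IsPreimmersion.of_isLocalization (S := k) (nonZeroDivisors A)

theorem exists_generic_geometricallyReduced {X Y : Scheme.{u}} (f : X ⟶ Y) [IrreducibleSpace Y]
    [LocallyOfFiniteType f] [QuasiCompact f] :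
    ∃ (V : Y.Opens) (Y' : Scheme.{u}) (g : Y' ⟶ (V : Scheme.{u})) (X' : Scheme.{u})
      (r : X' ⟶ pullback f (g ≫ V.ι)) (_ : IsIntegral Y'),
      (V : Set Y).Nonempty ∧ IsAffine Y' ∧ IsFinite g ∧ FlatMor.IsUnivHomeo g ∧ IsClosedImmersion r ∧
      Surjective r ∧ IsReduced X' ∧ Flat (r ≫ pullback.snd f (g ≫ V.ι)) ∧
      LocallyOfFinitePresentation (r ≫ pullback.snd f (g ≫ V.ι)) ∧
      QuasiCompact (r ≫ pullback.snd f (g ≫ V.ι)) ∧ QuasiSeparated (r ≫ pullback.snd f (g ≫ V.ι)) ∧
      GeometricallyReduced ((r ≫ pullback.snd f (g ≫ V.ι)).fiberToSpecResidueField (genericPoint Y')) := by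
  classical
  obtain ⟨y₀⟩ := (inferInstance : Nonempty Y)
  obtain ⟨_, ⟨V₀, hV₀, rfl⟩, hy₀, -⟩ := Y.isBasis_affineOpens.exists_subset_of_mem_open
    (Set.mem_univ y₀) isOpen_univ
  let R := Γ(Y, V₀)
  -- the reduction of `R` is a domain
  haveI hP : (nilradical R).IsPrime := by
    rw [← PrimeSpectrum.irreducibleSpace_iff_isPrime_nilradical]
    have h := hV₀.fromSpec.isOpenEmbedding
    have h1 : IsPreirreducible (Set.range hV₀.fromSpec) :=
      (PreirreducibleSpace.isPreirreducible_univ (X := Y)).open_subset h.isOpen_range (Set.subset_univ _)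
    have h2 : IsPreirreducible (hV₀.fromSpec ⁻¹' Set.range hV₀.fromSpec) := h1.preimage h
    rw [Set.preimage_range] at h2
    have hne : y₀ ∈ Set.range hV₀.fromSpec := hV₀.range_fromSpec ▸ hy₀
    exact { isPreirreducible_univ := h2, toNonempty := ⟨hne.choose⟩ }
  let K := FractionRing (R ⧸ nilradical R)
  have hfrac : ∀ x : K, ∃ a s : R, algebraMap R K s ≠ 0 ∧ x * algebraMap R K s = algebraMap R K a := by
    intro x
    obtain ⟨⟨a, s⟩, hx⟩ := IsLocalization.surj (nonZeroDivisors (R ⧸ nilradical R)) x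
    obtain ⟨a', rfl⟩ := Ideal.Quotient.mk_surjective a
    obtain ⟨s', hs'⟩ := Ideal.Quotient.mk_surjective (s : R ⧸ nilradical R)
    refine ⟨a', s', ?_, ?_⟩ <;> rw [IsScalarTower.algebraMap_apply R (R ⧸ nilradical R) K]
    · rw [Ideal.Quotient.algebraMap_eq, hs']
      exact (IsLocalization.map_units K s).ne_zero
    · rw [IsScalarTower.algebraMap_apply R (R ⧸ nilradical R) K, Ideal.Quotient.algebraMap_eq, hs']
      exact hx
  have hkerK : RingHom.ker (algebraMap R K) ≤ nilradical R := by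
    intro r hr
    rw [RingHom.mem_ker, IsScalarTower.algebraMap_apply R (R ⧸ nilradical R) K,
      IsFractionRing.to_map_eq_zero_iff, Ideal.Quotient.algebraMap_eq, Ideal.Quotient.eq_zero_iff_mem] at hr
    exact hr
  -- the generic fibre
  let j : Spec (CommRingCat.of K) ⟶ Y := Spec.map (CommRingCat.ofHom (algebraMap R K)) ≫ hV₀.fromSpec
  let XK := pullback f j
  letI : XK.Over (Spec (CommRingCat.of K)) := ⟨pullback.snd f j⟩
  haveI : LocallyOfFiniteType (XK ↘ Spec (CommRingCat.of K)) :=
    inferInstanceAs (LocallyOfFiniteType (pullback.snd f j))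
  haveI : IsNoetherian XK :=
    { toIsLocallyNoetherian := LocallyOfFiniteType.isLocallyNoetherian (pullback.snd f j)
      toCompactSpace := QuasiCompact.compactSpace_of_compactSpace (pullback.snd f j) }
  obtain ⟨k', _, _, hfin, hpi, hgr⟩ := Groth.Agent.S1629.result K XK
    TopologicalSpace.NoetherianSpace.finite_irreducibleComponents
  haveI := hfin
  haveI := hpi
  -- the model
  obtain ⟨A, _, _, φ, ι, hι, hcomm, hφfin, hφhomeo, hfr⟩ := exists_model hfrac hkerK k'
  let g₀ : Spec (CommRingCat.of A) ⟶ Spec (CommRingCat.of R) := Spec.map (CommRingCat.ofHom φ)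
  let G₀ : Spec (CommRingCat.of A) ⟶ Y := g₀ ≫ hV₀.fromSpec
  let e : Spec (CommRingCat.of k') ⟶ Spec (CommRingCat.of A) := Spec.map (CommRingCat.ofHom ι)
  have heG : e ≫ G₀ = Spec.map (CommRingCat.ofHom (algebraMap K k')) ≫ j := by
    simp only [e, G₀, g₀, j, ← Spec.map_comp_assoc, ← CommRingCat.ofHom_comp, hcomm]
  let B := Curv2.bc K XK k'
  let π := pullback.snd f G₀
  let bP : B ⟶ pullback f G₀ := pullback.lift (Curv2.bcFst K XK k' ≫ pullback.fst f j)
    (Curv2.bcSnd K XK k' ≫ e) (by
      rw [Category.assoc, Category.assoc, pullback.condition, heG]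
      exact (reassoc_of% (pullback.condition (f := XK ↘ Spec (CommRingCat.of K))
        (g := Spec.map (CommRingCat.ofHom (algebraMap K k'))))) j)
  have hBbig : IsPullback (Curv2.bcFst K XK k' ≫ pullback.fst f j) (Curv2.bcSnd K XK k') f
      (Spec.map (CommRingCat.ofHom (algebraMap K k')) ≫ j) :=
    (IsPullback.of_hasPullback (pullback.snd f j) (Spec.map (CommRingCat.ofHom (algebraMap K k')))).paste_horiz
      (IsPullback.of_hasPullback f j)
  have hBP : IsPullback bP (Curv2.bcSnd K XK k') π e := by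
    refine IsPullback.of_right ?_ (pullback.lift_snd _ _ _) (IsPullback.of_hasPullback f G₀)
    rw [pullback.lift_fst, heG]
    exact hBbig
  let r₁ := (pullback f G₀).nilradical.subschemeι
  let p₁ := r₁ ≫ π
  haveI : IsIntegral (Spec (CommRingCat.of A)) := inferInstance
  haveI : IsReduced (pullback f G₀).nilradical.subscheme := inferInstance
  haveI hr₁s : Surjective r₁ := inferInstance
  -- generic point facts
  let η := genericPoint (Spec (CommRingCat.of A))
  have heη : e (IsLocalRing.closedPoint k') = η := by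
    rw [show η = _ from genericPoint_eq_bot_of_affine _]
    apply PrimeSpectrum.ext
    change Ideal.comap ι (IsLocalRing.maximalIdeal k') = ⊥
    rw [IsLocalRing.maximalIdeal_eq_bot, ← RingHom.ker_eq_comap_bot, (RingHom.injective_iff_ker_eq_bot ι).1 hι]
  haveI := isPreimmersion_generic ι hι hfr
  -- the generic fibre of `p₁` is the reduction of `B`
  have hE : GeometricallyReduced (pullback.snd p₁ e) := by
    have hex : ∀ z, e (IsLocalRing.closedPoint k') = z →
        ∃ χ : Spec (CommRingCat.of k') ⟶ Spec ((Spec (CommRingCat.of A)).residueField z),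
          χ ≫ (Spec (CommRingCat.of A)).fromSpecResidueField z = e := by
      intro z h
      subst h
      exact ⟨_, (Scheme.SpecToEquivOfField k' (Spec (CommRingCat.of A))).symm_apply_apply e⟩
    obtain ⟨χ, hχ⟩ := hex η heη
    obtain ⟨ψ, hψ⟩ := exists_factor_generic (A := CommRingCat.of A) (F := (Spec (CommRingCat.of A)).residueField η)
      ι hι hfr ((Spec (CommRingCat.of A)).fromSpecResidueField η) (Scheme.fromSpecResidueField_apply η _)
    haveI : IsIso χ := by
      refine ⟨ψ, ?_, ?_⟩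
      · rw [← cancel_mono e, Category.assoc, Category.id_comp]
        exact (congrArg (χ ≫ ·) hψ).trans hχ
      · rw [← cancel_mono ((Spec (CommRingCat.of A)).fromSpecResidueField η), Category.assoc, Category.id_comp, hχ]
        exact hψ
    haveI hF : IsReduced (p₁.fiber η) := Groth.Agent.S1471.result π η Set.univ
      (by rw [irreducibleComponents_eq_singleton]; rfl) (genericPoint_spec _)
    haveI hEred : IsReduced (pullback p₁ e) := by
      let q : pullback p₁ e ⟶ p₁.fiber η := pullback.lift (pullback.fst p₁ e) (pullback.snd p₁ e ≫ χ)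
        (by rw [Category.assoc, hχ]; exact pullback.condition)
      have hq : IsPullback q (pullback.snd p₁ e) (p₁.fiberToSpecResidueField η) χ := by
        refine IsPullback.of_right ?_ (pullback.lift_snd _ _ _)
          (IsPullback.of_hasPullback p₁ ((Spec (CommRingCat.of A)).fromSpecResidueField η))
        rw [show q ≫ _ = _ from pullback.lift_fst _ _ _, hχ]
        exact IsPullback.of_hasPullback p₁ e
      haveI := hq.isIso_fst_of_isIso
      exact isReduced_of_isOpenImmersion q
    let b : pullback p₁ e ⟶ B := hBP.lift (pullback.fst p₁ e ≫ r₁) (pullback.snd p₁ e)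
      (by rw [Category.assoc]; exact pullback.condition)
    have hb : IsPullback (pullback.fst p₁ e) b r₁ bP := by
      refine IsPullback.of_bot ?_ (hBP.lift_fst _ _ _).symm hBP
      rw [hBP.lift_snd]
      exact IsPullback.of_hasPullback p₁ e
    haveI : IsClosedImmersion b := MorphismProperty.of_isPullback hb inferInstance
    haveI : Surjective b := MorphismProperty.of_isPullback hb hr₁s
    have hker : B.nilradical.subschemeι.ker ≤ b.ker := by
      rw [Scheme.IdealSheafData.ker_subschemeι]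
      have h : B.nilradical = Scheme.IdealSheafData.vanishingIdeal (⊤ : Closeds B) := by
        rw [← Scheme.IdealSheafData.radical_bot, ← Scheme.IdealSheafData.vanishingIdeal_support,
          Scheme.IdealSheafData.support_bot]
      rw [h]
      exact Groth.Agent.S7660.le_ker_of_isReduced _
    let l := IsClosedImmersion.lift B.nilradical.subschemeι b hker
    have hl : l ≫ B.nilradical.subschemeι = b := IsClosedImmersion.lift_fac _ _ _
    haveI : IsClosedImmersion (l ≫ B.nilradical.subschemeι) := by rw [hl]; infer_instance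
    haveI : IsClosedImmersion l := IsClosedImmersion.of_comp l B.nilradical.subschemeι
    haveI : Surjective l := ⟨fun z => by
      obtain ⟨w, hw⟩ := (inferInstance : Surjective b).surj (B.nilradical.subschemeι z)
      refine ⟨w, B.nilradical.subschemeι.isClosedEmbedding.injective ?_⟩
      rw [← Scheme.Hom.comp_apply, hl]; exact hw⟩
    haveI : IsReduced B.nilradical.subscheme := inferInstance
    haveI : IsIso l := isIso_of_isClosedImmersion_of_surjective l
    have he' : pullback.snd p₁ e = l ≫ B.nilradical.subschemeι ≫ Curv2.bcSnd K XK k' := by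
      rw [reassoc_of% hl, hBP.lift_snd]
    rw [he']
    exact (MorphismProperty.cancel_left_of_respectsIso @GeometricallyReduced l _).2 hgr
  -- shrink
  haveI : LocallyOfFiniteType π := inferInstance
  haveI : QuasiCompact π := inferInstance
  haveI : LocallyOfFiniteType p₁ := inferInstance
  haveI : QuasiCompact p₁ := inferInstance
  obtain ⟨U₁, hU₁, hflat, hfp⟩ := Groth.FlatMorOne.exists_dense_flat_finitePresentation p₁
  obtain ⟨U₂, hU₂, hqs⟩ := exists_open_quasiSeparated p₁
  have hg₀ : IsHomeomorph g₀ := Groth.HTopHyper.isHomeomorph_of_isUnivHomeo hφhomeo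
  have hG₀emb : Topology.IsOpenEmbedding G₀ :=
    hV₀.fromSpec.isOpenEmbedding.comp hg₀.isOpenEmbedding
  let W : Y.Opens := ⟨G₀ '' (U₁ ⊓ U₂ : (Spec (CommRingCat.of A)).Opens), hG₀emb.isOpenMap _ (U₁ ⊓ U₂).2⟩
  obtain ⟨u₀, hu₀⟩ : ((U₁ ⊓ U₂ : (Spec (CommRingCat.of A)).Opens) : Set (Spec (CommRingCat.of A))).Nonempty :=
    nonempty_preirreducible_inter U₁.2 U₂.2 hU₁.nonempty hU₂
  obtain ⟨_, ⟨V, hV, rfl⟩, hVmem, hVW⟩ := Y.isBasis_affineOpens.exists_subset_of_mem_open
    (show G₀ u₀ ∈ (W : Set Y) from ⟨u₀, hu₀, rfl⟩) W.2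
  change Y.Opens at V
  let Y' : (Spec (CommRingCat.of A)).Opens := G₀ ⁻¹ᵁ V
  have hY'le : Y' ≤ U₁ ⊓ U₂ := by
    intro a ha
    obtain ⟨b, hb, hab⟩ := hVW (show G₀ a ∈ (V : Set Y) from ha)
    rwa [← hG₀emb.injective hab]
  have hVV₀ : (V : Set Y) ⊆ Set.range hV₀.fromSpec := fun y hy => by
    obtain ⟨b, -, rfl⟩ := hVW hy
    exact ⟨g₀ b, rfl⟩
  haveI : Nonempty (Y' : Scheme.{u}) := ⟨⟨u₀, hVmem⟩⟩
  haveI : IsIntegral (Y' : Scheme.{u}) := isIntegral_of_isOpenImmersion Y'.ι
  haveI : IsIso (hV₀.fromSpec ∣_ V) := by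
    haveI : Surjective (hV₀.fromSpec ∣_ V) := ⟨fun y => by
      obtain ⟨z, hz⟩ := hVV₀ y.2
      refine ⟨⟨z, show hV₀.fromSpec z ∈ V by rw [hz]; exact y.2⟩, V.ι.isOpenEmbedding.injective ?_⟩
      rw [← Scheme.Hom.comp_apply, morphismRestrict_ι]
      exact hz⟩
    haveI : Epi (hV₀.fromSpec ∣_ V).base := (TopCat.epi_iff_surjective _).2 (hV₀.fromSpec ∣_ V).surjective
    exact IsOpenImmersion.isIso _ 
  have hgeq : G₀ ∣_ V = (g₀ ∣_ (hV₀.fromSpec ⁻¹ᵁ V)) ≫ (hV₀.fromSpec ∣_ V) := morphismRestrict_comp _ _ _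
  have hg₀fin : IsFinite g₀ := (IsFinite.SpecMap_iff _).2 hφfin
  haveI hgfin : IsFinite (G₀ ∣_ V) := by
    haveI : IsFinite (g₀ ∣_ (hV₀.fromSpec ⁻¹ᵁ V)) := MorphismProperty.of_isPullback (isPullback_morphismRestrict g₀ _).flip hg₀fin
    rw [hgeq]
    exact MorphismProperty.comp_mem _ _ _ inferInstance inferInstance
  haveI : IsAffine (V : Scheme.{u}) := hV
  haveI hY'aff : IsAffine (Y' : Scheme.{u}) := isAffine_of_isAffineHom (G₀ ∣_ V)
  have hguh : FlatMor.IsUnivHomeo (G₀ ∣_ V) := by
    rw [hgeq]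
    exact Groth.HTopHyper.isUnivHomeo_comp
      (Groth.HTopHyper.isUnivHomeo_of_isPullback (isPullback_morphismRestrict g₀ _) hφhomeo)
      (Groth.HTopHyper.isUnivHomeo_of_isIso _)
  let m : pullback f (G₀ ∣_ V ≫ V.ι) ⟶ pullback f G₀ :=
    pullback.lift (pullback.fst _ _) (pullback.snd _ _ ≫ Y'.ι)
      (by rw [Category.assoc, ← morphismRestrict_ι]; exact pullback.condition)
  have hm : IsPullback m (pullback.snd f (G₀ ∣_ V ≫ V.ι)) π Y'.ι := by
    refine IsPullback.of_right ?_ (pullback.lift_snd _ _ _) (IsPullback.of_hasPullback f G₀)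
    rw [pullback.lift_fst, ← morphismRestrict_ι]
    exact IsPullback.of_hasPullback _ _
  let r : (p₁ ⁻¹ᵁ Y' : Scheme.{u}) ⟶ pullback f (G₀ ∣_ V ≫ V.ι) :=
    pullback.lift ((p₁ ⁻¹ᵁ Y').ι ≫ r₁ ≫ pullback.fst f G₀) (p₁ ∣_ Y') (by
      rw [morphismRestrict_ι, morphismRestrict_ι_assoc, Category.assoc, Category.assoc, pullback.condition]
      rfl)
  have hrs : r ≫ pullback.snd f (G₀ ∣_ V ≫ V.ι) = p₁ ∣_ Y' := pullback.lift_snd _ _ _
  have hrm : r ≫ m = (p₁ ⁻¹ᵁ Y').ι ≫ r₁ := by
    apply pullback.hom_ext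
    · rw [Category.assoc, pullback.lift_fst, pullback.lift_fst, Category.assoc]
    · rw [Category.assoc, pullback.lift_snd, ← Category.assoc, hrs, morphismRestrict_ι, Category.assoc]
  have hr : IsPullback r (p₁ ⁻¹ᵁ Y').ι m r₁ := by
    refine IsPullback.of_right ?_ hrm hm.flip
    rw [hrs]
    exact isPullback_morphismRestrict p₁ Y'
  refine ⟨V, Y', G₀ ∣_ V, (p₁ ⁻¹ᵁ Y' : Scheme.{u}), r, inferInstance, ⟨_, hVmem⟩, hY'aff, hgfin, hguh,
    MorphismProperty.of_isPullback hr.flip inferInstance, MorphismProperty.of_isPullback hr.flip hr₁s,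
    isReduced_of_isOpenImmersion (p₁ ⁻¹ᵁ Y').ι, ?_, ?_, ?_, ?_, ?_⟩
  · rw [hrs]; exact prop_restrict_mono (P := @Flat) _ (hY'le.trans inf_le_left) hflat
  · rw [hrs]; exact prop_restrict_mono (P := @LocallyOfFinitePresentation) _ (hY'le.trans inf_le_left) hfp
  · rw [hrs]; infer_instance
  · rw [hrs]
    have := hqs Y' (show IsAffineOpen Y' from hY'aff) (hY'le.trans inf_le_right)
    exact HasAffineProperty.iff_of_isAffine.mpr this
  · let η'' := genericPoint (Y' : Scheme.{u})
    let y : Spec ((Y' : Scheme.{u}).residueField η'') ⟶ Spec (CommRingCat.of A) :=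
      (Y' : Scheme.{u}).fromSpecResidueField η'' ≫ Y'.ι
    obtain ⟨ψ, hψ⟩ := exists_factor_generic (A := CommRingCat.of A) (F := (Y' : Scheme.{u}).residueField η'')
      ι hι hfr y (by
        rw [Scheme.Hom.comp_apply]
        rw [show (Y' : Scheme.{u}).fromSpecResidueField η'' _ = η'' from Scheme.fromSpecResidueField_apply η'' _]
        exact genericPoint_eq_of_isOpenImmersion Y'.ι)
    rw [hrs]
    let q : (p₁ ∣_ Y').fiber η'' ⟶ pullback p₁ e :=
      pullback.lift ((p₁ ∣_ Y').fiberι η'' ≫ (p₁ ⁻¹ᵁ Y').ι) ((p₁ ∣_ Y').fiberToSpecResidueField η'' ≫ ψ) (by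
        rw [Category.assoc, Category.assoc, ← morphismRestrict_ι]
        exact (pullback.condition_assoc _).trans (congrArg ((p₁ ∣_ Y').fiberToSpecResidueField η'' ≫ ·) hψ.symm))
    have hq : IsPullback q ((p₁ ∣_ Y').fiberToSpecResidueField η'') (pullback.snd p₁ e) ψ := by
      refine IsPullback.of_right ?_ (pullback.lift_snd _ _ _) (IsPullback.of_hasPullback p₁ e)
      rw [show q ≫ _ = _ from pullback.lift_fst _ _ _]
      have := (IsPullback.of_hasPullback (p₁ ∣_ Y') ((Y' : Scheme.{u}).fromSpecResidueField η'')).paste_horiz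
        (isPullback_morphismRestrict p₁ Y').flip
      exact hψ ▸ this
    exact MorphismProperty.of_isPullback hq hE

end Groth.GenGeomRed
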