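import Groth.Agent.GenGeomRed.Main
import Groth.Agent.GenGeomRed.ModelSep
import Groth.Agent.S1654
import Groth.Agent.PropsBasic2.Reduced

/-!
After a finite étale covering of an open of the base, the components of the generic fibre are
geometrically irreducible.
-/

set_option autoImplicit false
set_option linter.style.haveILetI false
universe u

open CategoryTheory CategoryTheory.Limits AlgebraicGeometry TopologicalSpace

namespace Groth.GenGeomRed

/-- A field valued point which is a preimmersion is the point of the residue field. -/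
theorem exists_isIso_factor {S : Scheme.{u}} {k : Type u} [Field k] (e : Spec (CommRingCat.of k) ⟶ S)
    [IsPreimmersion e] (z : S) (h : e (IsLocalRing.closedPoint k) = z) :
    ∃ χ : Spec (CommRingCat.of k) ⟶ Spec (S.residueField z), IsIso χ ∧ χ ≫ S.fromSpecResidueField z = e := by
  subst h
  obtain ⟨χ, hχ⟩ : ∃ χ : Spec (CommRingCat.of k) ⟶ Spec (S.residueField (e (IsLocalRing.closedPoint k))),
      χ ≫ S.fromSpecResidueField _ = e :=
    ⟨_, (Scheme.SpecToEquivOfField k S).symm_apply_apply e⟩
  refine ⟨χ, ?_, hχ⟩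
  haveI : IsPreimmersion (χ ≫ S.fromSpecResidueField _) := by rw [hχ]; infer_instance
  haveI : IsPreimmersion χ := IsPreimmersion.of_comp χ (S.fromSpecResidueField _)
  haveI : Surjective χ := ⟨fun y => ⟨IsLocalRing.closedPoint k, Subsingleton.elim _ _⟩⟩
  haveI : IsClosedImmersion χ := IsClosedImmersion.of_isPreimmersion χ
    (by rw [Set.range_eq_univ.2 χ.surjective]; exact isClosed_univ)
  exact isIso_of_isClosedImmersion_of_surjective χ

/-- Two closed immersions from reduced schemes with the same range differ by an isomorphism. -/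
theorem exists_isIso_lift {W W' F : Scheme.{u}} [IsReduced W] [IsReduced W'] (c : W ⟶ F) (c' : W' ⟶ F)
    [IsClosedImmersion c] [IsClosedImmersion c'] (h : Set.range c ⊆ Set.range c') (h' : Set.range c' ⊆ Set.range c)
    (hker : c'.ker ≤ c.ker) :
    ∃ l : W ⟶ W', IsIso l ∧ l ≫ c' = c := by
  refine ⟨IsClosedImmersion.lift c' c hker, ?_, IsClosedImmersion.lift_fac _ _ _⟩
  set l := IsClosedImmersion.lift c' c hker
  have hl : l ≫ c' = c := IsClosedImmersion.lift_fac _ _ _
  haveI : IsClosedImmersion (l ≫ c') := by rw [hl]; infer_instance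
  haveI : IsClosedImmersion l := IsClosedImmersion.of_comp l c'
  haveI : Surjective l := ⟨fun z => by
    obtain ⟨w, hw⟩ := h' ⟨z, rfl⟩
    refine ⟨w, c'.isClosedEmbedding.injective ?_⟩
    rw [← Scheme.Hom.comp_apply, hl]
    exact hw⟩
  exact isIso_of_isClosedImmersion_of_surjective l

theorem exists_generic_geometricallyIrreducible {X Y : Scheme.{u}} (f : X ⟶ Y) [IrreducibleSpace Y]
    [LocallyOfFiniteType f] [QuasiCompact f] :
    ∃ (V : Y.Opens) (Y' : Scheme.{u}) (g : Y' ⟶ (V : Scheme.{u})) (_ : IrreducibleSpace Y'),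
      (V : Set Y).Nonempty ∧ IsAffine Y' ∧ Surjective g ∧ IsFinite g ∧ Etale g ∧
      ∀ (Z : Set ↥((pullback.snd f (g ≫ V.ι)).fiber (genericPoint Y')))
        (hZ : Z ∈ irreducibleComponents ↥((pullback.snd f (g ≫ V.ι)).fiber (genericPoint Y'))),
        GeometricallyIrreducible ((Scheme.IdealSheafData.vanishingIdeal
            (⟨Z, isClosed_of_mem_irreducibleComponents Z hZ⟩ : Closeds _)).subschemeι ≫
          (pullback.snd f (g ≫ V.ι)).fiberToSpecResidueField (genericPoint Y')) := by
  classical
  obtain ⟨y₀⟩ := (inferInstance : Nonempty Y)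
  obtain ⟨_, ⟨V₀, hV₀, rfl⟩, hy₀, -⟩ := Y.isBasis_affineOpens.exists_subset_of_mem_open
    (Set.mem_univ y₀) isOpen_univ
  let R := Γ(Y, V₀)
  haveI hP : (nilradical R).IsPrime := by
    rw [← PrimeSpectrum.irreducibleSpace_iff_isPrime_nilradical]
    have h := hV₀.fromSpec.isOpenEmbedding
    have h1 : IsPreirreducible (Set.range hV₀.fromSpec) :=
      (PreirreducibleSpace.isPreirreducible_univ (X := Y)).open_subset h.isOpen_range (Set.subset_univ _)
    have h2 : IsPreirreducible (hV₀.fromSpec ⁻¹' Set.range hV₀.fromSpec) := h1.preimage h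
    rw [Set.preimage_range] at h2
    have hne : y₀ ∈ Set.range hV₀.fromSpec := hV₀.range_fromSpec ▸ hy₀
    exact { isPreirreducible_univ := h2, toNonempty := ⟨hne.choose⟩ }
  let K := FractionRing (R ⧸ nilradical R)
  have hfrac : ∀ x : K, ∃ a s : R, algebraMap R K s ≠ 0 ∧ x * algebraMap R K s = algebraMap R K a := by
    intro x
    obtain ⟨⟨a, s⟩, hx⟩ := IsLocalization.surj (nonZeroDivisors (R ⧸ nilradical R)) x
    obtain ⟨a', rfl⟩ := Ideal.Quotient.mk_surjective a
    obtain ⟨s', hs'⟩ := Ideal.Quotient.mk_surjective (s : R ⧸ nilradical R)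
    refine ⟨a', s', ?_, ?_⟩ <;> rw [IsScalarTower.algebraMap_apply R (R ⧸ nilradical R) K]
    · rw [Ideal.Quotient.algebraMap_eq, hs']
      exact (IsLocalization.map_units K s).ne_zero
    · rw [IsScalarTower.algebraMap_apply R (R ⧸ nilradical R) K, Ideal.Quotient.algebraMap_eq, hs']
      exact hx
  have hkerK : RingHom.ker (algebraMap R K) ≤ nilradical R := by
    intro r hr
    rw [RingHom.mem_ker, IsScalarTower.algebraMap_apply R (R ⧸ nilradical R) K,
      IsFractionRing.to_map_eq_zero_iff, Ideal.Quotient.algebraMap_eq, Ideal.Quotient.eq_zero_iff_mem] at hr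
    exact hr
  let j : Spec (CommRingCat.of K) ⟶ Y := Spec.map (CommRingCat.ofHom (algebraMap R K)) ≫ hV₀.fromSpec
  let XK := pullback f j
  letI : XK.Over (Spec (CommRingCat.of K)) := ⟨pullback.snd f j⟩
  haveI : LocallyOfFiniteType (XK ↘ Spec (CommRingCat.of K)) :=
    inferInstanceAs (LocallyOfFiniteType (pullback.snd f j))
  haveI : IsNoetherian XK :=
    { toIsLocallyNoetherian := LocallyOfFiniteType.isLocallyNoetherian (pullback.snd f j)
      toCompactSpace := QuasiCompact.compactSpace_of_compactSpace (pullback.snd f j) }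
  obtain ⟨k', _, _, hfin, hsep, hgi⟩ := Groth.Agent.S1654.result K XK
    TopologicalSpace.NoetherianSpace.finite_irreducibleComponents
  haveI := hfin
  haveI := hsep
  obtain ⟨h, A, _, φ, ι, hh, hφet, hφfin, hφsurj, hker, hcomm, hfr⟩ := exists_etale_model hfrac hkerK k'
  haveI hprime : (nilradical A).IsPrime := hker ▸ RingHom.ker_isPrime ι
  haveI hY'irr : IrreducibleSpace (Spec (CommRingCat.of A)) :=
    PrimeSpectrum.irreducibleSpace_iff_isPrime_nilradical.2 hprime
  let j₁ : Spec (CommRingCat.of (Localization.Away h)) ⟶ Y :=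
    Spec.map (CommRingCat.ofHom (algebraMap R (Localization.Away h))) ≫ hV₀.fromSpec
  haveI : IsOpenImmersion (Spec.map (CommRingCat.ofHom (algebraMap R (Localization.Away h)))) :=
    IsOpenImmersion.of_isLocalization h
  let g : Spec (CommRingCat.of A) ⟶ (j₁.opensRange : Scheme.{u}) :=
    Spec.map (CommRingCat.ofHom φ) ≫ j₁.isoOpensRange.hom
  have hgι : g ≫ j₁.opensRange.ι = Spec.map (CommRingCat.ofHom φ) ≫ j₁ := by
    simp [g]
  let G₀ := g ≫ j₁.opensRange.ι
  let e : Spec (CommRingCat.of k') ⟶ Spec (CommRingCat.of A) := Spec.map (CommRingCat.ofHom ι)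
  have heG : e ≫ G₀ = Spec.map (CommRingCat.ofHom (algebraMap K k')) ≫ j := by
    simp only [G₀, hgι, e, j₁, j, ← Spec.map_comp_assoc, ← CommRingCat.ofHom_comp, hcomm]
  let π := pullback.snd f G₀
  let B := Curv2.bc K XK k'
  let bP : B ⟶ pullback f G₀ := pullback.lift (Curv2.bcFst K XK k' ≫ pullback.fst f j)
    (Curv2.bcSnd K XK k' ≫ e) (by
      rw [Category.assoc, Category.assoc, pullback.condition, heG]
      exact (reassoc_of% (pullback.condition (f := XK ↘ Spec (CommRingCat.of K))
        (g := Spec.map (CommRingCat.ofHom (algebraMap K k'))))) j)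
  have hBbig : IsPullback (Curv2.bcFst K XK k' ≫ pullback.fst f j) (Curv2.bcSnd K XK k') f
      (Spec.map (CommRingCat.ofHom (algebraMap K k')) ≫ j) :=
    (IsPullback.of_hasPullback (pullback.snd f j) (Spec.map (CommRingCat.ofHom (algebraMap K k')))).paste_horiz
      (IsPullback.of_hasPullback f j)
  have hBP : IsPullback bP (Curv2.bcSnd K XK k') π e := by
    refine IsPullback.of_right ?_ (pullback.lift_snd _ _ _) (IsPullback.of_hasPullback f G₀)
    rw [pullback.lift_fst, heG]
    exact hBbig
  -- `e` is the generic point of `Y'`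
  let η := genericPoint (Spec (CommRingCat.of A))
  haveI : IsPreimmersion e := by
    haveI := RingHom.ker_isPrime ι
    haveI := isPreimmersion_generic (A := A ⧸ RingHom.ker ι) (RingHom.kerLift ι) (RingHom.kerLift_injective ι)
      (fun x => by
        obtain ⟨a, s, hs, he⟩ := hfr x
        refine ⟨Ideal.Quotient.mk _ a, Ideal.Quotient.mk _ s, fun h0 => hs ?_, he⟩
        exact Ideal.Quotient.eq_zero_iff_mem.1 h0)
    haveI : IsClosedImmersion (Spec.map (CommRingCat.ofHom (Ideal.Quotient.mk (RingHom.ker ι)))) :=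
      IsClosedImmersion.spec_of_surjective _ Ideal.Quotient.mk_surjective
    have : e = Spec.map (CommRingCat.ofHom (RingHom.kerLift ι)) ≫
        Spec.map (CommRingCat.ofHom (Ideal.Quotient.mk (RingHom.ker ι))) := by
      rw [← Spec.map_comp]; rfl
    rw [this]; infer_instance
  have heη : e (IsLocalRing.closedPoint k') = η := by
    refine IsGenericPoint.eq ?_ (genericPoint_spec (Spec (CommRingCat.of A)))
    refine Set.eq_univ_iff_forall.2 fun p => ?_
    refine specializes_iff_mem_closure.1 ((PrimeSpectrum.le_iff_specializes _ p).1 ?_)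
    change Ideal.comap ι (IsLocalRing.maximalIdeal k') ≤ p.asIdeal
    rw [IsLocalRing.maximalIdeal_eq_bot, ← RingHom.ker_eq_comap_bot, hker]
    exact nilradical_le_prime p.asIdeal
  obtain ⟨χ, hχiso, hχ⟩ := exists_isIso_factor e η heη
  haveI := hχiso
  let θ : B ⟶ π.fiber η := pullback.lift bP (Curv2.bcSnd K XK k' ≫ χ)
    (by rw [Category.assoc, hχ]; exact hBP.w)
  have hθ : IsPullback θ (Curv2.bcSnd K XK k') (π.fiberToSpecResidueField η) χ := by
    refine IsPullback.of_right ?_ (pullback.lift_snd _ _ _)
      (IsPullback.of_hasPullback π ((Spec (CommRingCat.of A)).fromSpecResidueField η))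
    rw [show θ ≫ _ = _ from pullback.lift_fst _ _ _, hχ]
    exact hBP
  haveI : IsIso θ := hθ.isIso_fst_of_isIso
  refine ⟨j₁.opensRange, Spec (CommRingCat.of A), g, hY'irr,
    ⟨j₁.opensRange.ι (g η), (g η).2⟩, inferInstance, ?_, ?_, ?_, ?_⟩
  · haveI : Surjective (Spec.map (CommRingCat.ofHom φ)) := ⟨hφsurj⟩
    infer_instance
  · haveI : IsFinite (Spec.map (CommRingCat.ofHom φ)) := (IsFinite.SpecMap_iff _).2 hφfin
    exact MorphismProperty.comp_mem _ _ _ inferInstance inferInstance
  · haveI : Etale (Spec.map (CommRingCat.ofHom φ)) := (HasRingHomProperty.Spec_iff (P := @Etale)).2 hφet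
    exact MorphismProperty.comp_mem _ _ _ inferInstance inferInstance
  · intro Z hZ
    let T : Set B := θ ⁻¹' Z
    have hT : T ∈ irreducibleComponents (B : Type u) :=
      preimage_mem_irreducibleComponents hZ θ.isOpenEmbedding (by
        rw [Set.range_eq_univ.2 θ.surjective, Set.inter_univ]
        exact hZ.1.nonempty)
    let c := (Scheme.IdealSheafData.vanishingIdeal
      (⟨T, isClosed_of_mem_irreducibleComponents T hT⟩ : Closeds _)).subschemeι ≫ θ
    haveI := Groth.PropsBasic2.isReduced_vanishingIdeal_subscheme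
      (⟨T, isClosed_of_mem_irreducibleComponents T hT⟩ : Closeds B)
    haveI := Groth.PropsBasic2.isReduced_vanishingIdeal_subscheme
      (⟨Z, isClosed_of_mem_irreducibleComponents Z hZ⟩ : Closeds _)
    let J := Scheme.IdealSheafData.vanishingIdeal
      (⟨Z, isClosed_of_mem_irreducibleComponents Z hZ⟩ : Closeds _)
    have hrange : Set.range c = Z := by
      rw [Scheme.Hom.comp_base, TopCat.coe_comp, Set.range_comp, Scheme.IdealSheafData.range_subschemeι,
        Scheme.IdealSheafData.coe_support_vanishingIdeal]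
      exact Set.image_preimage_eq Z θ.surjective
    have hrange' : Set.range J.subschemeι = Z := by
      rw [Scheme.IdealSheafData.range_subschemeι, Scheme.IdealSheafData.coe_support_vanishingIdeal]
      rfl
    have hker' : J.subschemeι.ker ≤ c.ker := by
      rw [Scheme.IdealSheafData.ker_subschemeι]
      have h1 : c.ker.support = (⟨Z, isClosed_of_mem_irreducibleComponents Z hZ⟩ : Closeds _) :=
        SetLike.coe_injective (by
          rw [Scheme.Hom.support_ker, hrange]
          exact (isClosed_of_mem_irreducibleComponents Z hZ).closure_eq)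
      have h2 : c.ker.radical = c.ker := by
        refine le_antisymm ?_ (Scheme.IdealSheafData.le_radical _)
        intro U x hx
        rw [Scheme.IdealSheafData.radical_ideal] at hx
        obtain ⟨n, hn⟩ := hx
        rw [Scheme.Hom.ker_apply, RingHom.mem_ker] at hn ⊢
        rw [map_pow] at hn
        exact IsReduced.eq_zero _ ⟨n, hn⟩
      rw [← h2, ← Scheme.IdealSheafData.vanishingIdeal_support, h1]
    obtain ⟨l, hl, hlc⟩ := exists_isIso_lift c J.subschemeι (hrange.trans hrange'.symm).subset
      (hrange'.trans hrange.symm).subset hker'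
    haveI := hl
    have h3 : GeometricallyIrreducible (c ≫ π.fiberToSpecResidueField η) := by
      have e1 : c ≫ π.fiberToSpecResidueField η =
          ((Scheme.IdealSheafData.vanishingIdeal
            (⟨T, isClosed_of_mem_irreducibleComponents T hT⟩ : Closeds _)).subschemeι ≫ Curv2.bcSnd K XK k') ≫ χ := by
        rw [Category.assoc, Category.assoc, hθ.w]
      rw [e1]
      exact (MorphismProperty.cancel_right_of_respectsIso @GeometricallyIrreducible _ χ).2 (hgi T hT)
    rw [← hlc, Category.assoc] at h3
    exact (MorphismProperty.cancel_left_of_respectsIso @GeometricallyIrreducible l _).1 h3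

end Groth.GenGeomRed
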