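import Groth.Agent.FlatMorOne.GenFlatScheme
import Groth.Agent.SpectralTopology.Constructible
import Groth.Agent.S12442
import Mathlib

/-!
Shrinking an integral base so that a finite type morphism becomes flat, of finite presentation and
quasi-separated.
-/

set_option autoImplicit false
universe u

open CategoryTheory CategoryTheory.Limits AlgebraicGeometry TopologicalSpace Topology

namespace Groth.GenGeomRed

/-- A finite family of nonempty opens of an irreducible space has nonempty intersection. -/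
theorem exists_nonempty_open_le {S : Type u} [TopologicalSpace S] [IrreducibleSpace S] {ι : Type u} [Finite ι]
    (U : ι → Opens S) (h : ∀ i, (U i : Set S).Nonempty) :
    ∃ V : Opens S, (V : Set S).Nonempty ∧ ∀ i, V ≤ U i := by
  classical
  have := Fintype.ofFinite ι
  have : ∀ t : Finset ι, ∃ V : Opens S, (V : Set S).Nonempty ∧ ∀ i ∈ t, V ≤ U i := by
    intro t
    induction t using Finset.induction_on with
    | empty => exact ⟨⊤, Set.univ_nonempty, by simp⟩
    | insert a s _ ih =>
      obtain ⟨V, hV, hle⟩ := ih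
      refine ⟨U a ⊓ V, nonempty_preirreducible_inter (U a).2 V.2 (h a) hV, fun i hi => ?_⟩
      rcases Finset.mem_insert.1 hi with rfl | hi
      · exact inf_le_left
      · exact inf_le_right.trans (hle i hi)
  obtain ⟨V, hV, hle⟩ := this Finset.univ
  exact ⟨V, hV, fun i => hle i (Finset.mem_univ i)⟩

theorem prop_restrict_mono {P : MorphismProperty Scheme.{u}} [P.IsStableUnderBaseChange]
    [P.RespectsIso] {X Y : Scheme.{u}} (f : X ⟶ Y) {V W : Y.Opens} (h : W ≤ V) (hP : P (f ∣_ V)) :
    P (f ∣_ W) := by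
  have e : V.ι ''ᵁ V.ι ⁻¹ᵁ W = W := by
    rw [Scheme.Hom.image_preimage_eq_opensRange_inf, Scheme.Opens.opensRange_ι]
    exact inf_eq_right.2 h
  rw [← MorphismProperty.arrow_mk_iso_iff P (morphismRestrictEq f e),
    ← MorphismProperty.arrow_mk_iso_iff P (morphismRestrictRestrict f V (V.ι ⁻¹ᵁ W))]
  exact MorphismProperty.of_isPullback (isPullback_morphismRestrict (f ∣_ V) (V.ι ⁻¹ᵁ W)).flip hP

/-- The complement of the range of a locally finitely presented closed immersion into a qcqs scheme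
is quasi-compact. -/
theorem isCompact_compl_range {Z A : Scheme.{u}} [CompactSpace A] [QuasiSeparatedSpace A] (c : Z ⟶ A)
    [IsClosedImmersion c] [LocallyOfFinitePresentation c] : IsCompact (Set.range c)ᶜ := by
  have hc : IsConstructible (Set.range c) := by
    rw [← Set.image_univ]
    exact c.isConstructible_image .univ
  exact (Groth.SpectralTopology.isRetrocompact_of_isConstructible hc.compl).isCompact

/-- A finite type morphism to an integral affine scheme is quasi-separated over a nonempty open. -/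
theorem exists_open_quasiSeparated {X S : Scheme.{u}} [IsAffine S] [IsIntegral S] (f : X ⟶ S)
    [LocallyOfFiniteType f] [QuasiCompact f] :
    ∃ U : S.Opens, (U : Set S).Nonempty ∧ ∀ O : S.Opens, IsAffineOpen O → O ≤ U →
      QuasiSeparatedSpace (f ⁻¹ᵁ O : Scheme.{u}) := by
  classical
  haveI : CompactSpace X := QuasiCompact.compactSpace_of_compactSpace f
  obtain ⟨T, hTfin, hTeq⟩ := isCompact_and_isOpen_iff_finite_and_eq_biUnion_affineOpens.mp
    ⟨(isCompact_univ : IsCompact (Set.univ : Set X)), isOpen_univ⟩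
  let W : T → X.Opens := fun i => i.1.1
  have hW : ∀ i, IsAffineOpen (W i) := fun i => i.1.2
  have : Finite T := hTfin.to_subtype
  let Z : ∀ p : T × T, Closeds (W p.1 : Scheme.{u}) := fun p =>
    ⟨(((W p.1).ι ⁻¹ᵁ W p.2 : (W p.1 : Scheme.{u}).Opens) : Set (W p.1 : Scheme.{u}))ᶜ,
      ((W p.1).ι ⁻¹ᵁ W p.2).2.isClosed_compl⟩
  let J : ∀ p : T × T, (W p.1 : Scheme.{u}).IdealSheafData := fun p =>
    Scheme.IdealSheafData.vanishingIdeal (Z p)
  haveI : ∀ i, IsAffine (W i : Scheme.{u}) := hW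
  let z : ∀ p : T × T, (J p).subscheme ⟶ S := fun p => (J p).subschemeι ≫ (W p.1).ι ≫ f
  have hz : ∀ p, ∃ U : S.Opens, (U : Set S).Nonempty ∧ LocallyOfFinitePresentation (z p ∣_ U) := by
    intro p
    haveI : QuasiCompact ((W p.1).ι ≫ f) := inferInstance
    haveI : QuasiCompact (z p) := inferInstance
    haveI : LocallyOfFiniteType (z p) := inferInstance
    obtain ⟨U, hd, -, hfp⟩ := Groth.FlatMorOne.exists_dense_flat_finitePresentation (z p)
    exact ⟨U, hd.nonempty, hfp⟩
  choose U hU hfp using hz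
  obtain ⟨V, hV, hle⟩ := exists_nonempty_open_le U hU
  refine ⟨V, hV, fun O hO hOV => ?_⟩
  let O' : X.Opens := f ⁻¹ᵁ O
  have haff : ∀ i : T, IsAffineOpen (((W i).ι ≫ f) ⁻¹ᵁ O) := fun i => hO.preimage _
  have hcov : IsOpenCover (fun i : T => O'.ι ⁻¹ᵁ W i) := by
    rw [IsOpenCover, eq_top_iff]
    intro x _
    have hx : O'.ι x ∈ (Set.univ : Set X) := trivial
    rw [hTeq, Set.mem_iUnion₂] at hx
    obtain ⟨i, hi, hxi⟩ := hx
    exact Opens.mem_iSup.2 ⟨⟨i, hi⟩, hxi⟩
  refine Scheme.quasiSeparatedSpace_of_isOpenCover _ hcov (fun i => ?_) (fun i j => ?_)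
  · have h1 : IsAffineOpen ((W i).ι ''ᵁ (((W i).ι ≫ f) ⁻¹ᵁ O)) := (haff i).image_of_isOpenImmersion _
    have h2 : O'.ι ''ᵁ (O'.ι ⁻¹ᵁ W i) = (W i).ι ''ᵁ (((W i).ι ≫ f) ⁻¹ᵁ O) := by
      rw [Scheme.Hom.comp_preimage, Scheme.Hom.image_preimage_eq_opensRange_inf,
        Scheme.Hom.image_preimage_eq_opensRange_inf, Scheme.Opens.opensRange_ι, Scheme.Opens.opensRange_ι,
        inf_comm]
    rw [← Scheme.Hom.isAffineOpen_iff_of_isOpenImmersion O'.ι, h2]
    exact h1
  · let A : (W i : Scheme.{u}).Opens := ((W i).ι ≫ f) ⁻¹ᵁ O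
    haveI : IsAffine (A : Scheme.{u}) := haff i
    let c := (J (i, j)).subschemeι ∣_ A
    haveI hfp' : LocallyOfFinitePresentation (z (i, j) ∣_ O) :=
      prop_restrict_mono (P := @LocallyOfFinitePresentation) _ (hOV.trans (hle (i, j))) (hfp (i, j))
    haveI : LocallyOfFinitePresentation c := by
      haveI : LocallyOfFinitePresentation (c ≫ ((W i).ι ≫ f) ∣_ O) := by
        rw [← morphismRestrict_comp]; exact hfp'
      exact Groth.Agent.S12442.result c (((W i).ι ≫ f) ∣_ O)
    have hk := isCompact_compl_range c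
    have hk' := hk.image (A.ι ≫ (W i).ι).continuous
    rw [(O'.ι).isOpenEmbedding.isCompact_iff]
    convert hk' using 1
    ext x
    have hr : ∀ a : A, a ∈ (Set.range c)ᶜ ↔ (W i).ι (A.ι a) ∈ W j := by
      intro a
      have h1 : a ∈ Set.range c ↔ A.ι a ∈ Set.range (J (i, j)).subschemeι := by
        constructor
        · rintro ⟨w, rfl⟩
          refine ⟨((J (i, j)).subschemeι ⁻¹ᵁ A).ι w, ?_⟩
          rw [← Scheme.Hom.comp_apply, ← Scheme.Hom.comp_apply, morphismRestrict_ι]
        · rintro ⟨w, hw⟩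
          have hwA : (J (i, j)).subschemeι w ∈ A := hw ▸ a.2
          refine ⟨⟨w, hwA⟩, A.ι.isOpenEmbedding.injective ?_⟩
          rw [← Scheme.Hom.comp_apply, morphismRestrict_ι]
          exact hw
      refine Iff.trans (not_congr h1) ?_
      rw [Scheme.IdealSheafData.range_subschemeι, Scheme.IdealSheafData.coe_support_vanishingIdeal]
      exact not_not
    constructor
    · rintro ⟨y, ⟨hi, hj⟩, rfl⟩
      refine ⟨⟨⟨O'.ι y, hi⟩, y.2⟩, (hr _).2 hj, rfl⟩
    · rintro ⟨a, ha, rfl⟩
      exact ⟨⟨(W i).ι (A.ι a), a.2⟩, ⟨(A.ι a).2, (hr a).1 ha⟩, rfl⟩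

end Groth.GenGeomRed
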